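import Mathlib.CategoryTheory.Limits.Final
import Mathlib.CategoryTheory.FinCategory.Basic
import Mathlib.CategoryTheory.MorphismProperty.Composition
import Mathlib.CategoryTheory.IsConnected
import Mathlib.Data.Finite.Sum

/-!
A finitely generated category with finitely many objects receives a final and initial functor
from a finite category: the "bipartite" category with two copies of each object and one arrow
for each generator (and each identity).
-/

universe v u

open CategoryTheory

namespace Groth.Agent.FinModelCat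

/-- A finite bipartite graph. -/
structure Bip : Type 1 where
  O : Type
  E : Type
  src : E → O
  tgt : E → O

/-- Objects of the bipartite category: two copies of `O`. -/
inductive Obj (B : Bip) : Type where
  | lo (o : B.O)
  | hi (o : B.O)

inductive Hom (B : Bip) : Obj B → Obj B → Type where
  | id (j : Obj B) : Hom B j j
  | arr (e : B.E) : Hom B (.lo (B.src e)) (.hi (B.tgt e))

def Hom.comp {B : Bip} : ∀ {a b c : Obj B}, Hom B a b → Hom B b c → Hom B a c
  | _, _, _, .id _, g => g
  | _, _, _, .arr e, .id _ => .arr e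

instance (B : Bip) : SmallCategory (Obj B) where
  Hom := Hom B
  id := Hom.id
  comp := Hom.comp
  id_comp f := rfl
  comp_id f := by cases f <;> rfl
  assoc f g h := by
    cases f with
    | id => rfl
    | arr e => cases g; rfl

instance (B : Bip) [Finite B.O] : Finite (Obj B) :=
  Finite.of_injective (fun j : Obj B => (match j with | .lo o => Sum.inl o | .hi o => Sum.inr o : B.O ⊕ B.O))
    (by intro a b h; cases a <;> cases b <;> simp_all)

def Hom.code {B : Bip} : ∀ {a b : Obj B}, Hom B a b → Option B.E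
  | _, _, .id _ => none
  | _, _, .arr e => some e

lemma Hom.code_heq {B : Bip} {a b c d : Obj B} (f : Hom B a b) (g : Hom B c d)
    (h : f.code = g.code) (h₁ : a = c) : HEq f g := by
  cases f with
  | id =>
    cases g with
    | id => subst h₁; rfl
    | arr e => simp [Hom.code] at h
  | arr e =>
    cases g with
    | id => simp [Hom.code] at h
    | arr e' => simp [Hom.code] at h; subst h; rfl

instance (B : Bip) [Finite B.E] (a b : Obj B) : Finite (Hom B a b) :=
  Finite.of_injective Hom.code fun f g h => eq_of_heq (Hom.code_heq f g h rfl)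

noncomputable def finCategory (B : Bip) [Finite B.O] [Finite B.E] : FinCategory (Obj B) :=
  { fintypeObj := Fintype.ofFinite _
    fintypeHom := fun a b => @Fintype.ofFinite _ (inferInstanceAs (Finite (Hom B a b))) }

variable {I : Type u} [Category.{v} I] {B : Bip} (p : B.O → I)
  (φ : ∀ e : B.E, p (B.src e) ⟶ p (B.tgt e))

def pObj : Obj B → I
  | .lo o => p o
  | .hi o => p o

def model : Obj B ⥤ I where
  obj := pObj p
  map f := match f with
    | .id j => 𝟙 (pObj p j)
    | .arr e => φ e
  map_id _ := rfl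
  map_comp f g := by
    cases f with
    | id => exact (Category.id_comp _).symm
    | arr e => cases g; exact (Category.comp_id _).symm

variable (q : I → B.O) (hpq : ∀ x, p (q x) = x) (hqp : ∀ o, q (p o) = o)
  (hid : ∀ o, ∃ e, ∃ (h₁ : B.src e = o) (h₂ : B.tgt e = o), φ e = eqToHom (by rw [h₁, h₂]))
  (gen : ∀ x y : I, (x ⟶ y) → Prop)
  (hgen : ∀ P : MorphismProperty I, P.IsMultiplicative →
    (∀ (x y : I) (f : x ⟶ y), gen x y f → P f) → P = ⊤)
  (hφ : ∀ (x y : I) (f : x ⟶ y), gen x y f → ∃ e, ∃ (h₁ : p (B.src e) = x) (h₂ : p (B.tgt e) = y),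
    φ e = eqToHom h₁ ≫ f ≫ eqToHom h₂.symm)

def mkArr (e : B.E) {o o' : B.O} (h₁ : B.src e = o) (h₂ : B.tgt e = o') :
    (Obj.lo o : Obj B) ⟶ Obj.hi o' := h₁ ▸ h₂ ▸ Hom.arr e

lemma model_map_mkArr (e : B.E) {o o' : B.O} (h₁ : B.src e = o) (h₂ : B.tgt e = o') :
    (model p φ).map (mkArr e h₁ h₂) = eqToHom (by subst h₁; rfl) ≫ φ e ≫ eqToHom (by subst h₂; rfl) := by
  subst h₁; subst h₂
  exact ((Category.id_comp _).trans (Category.comp_id _)).symm

include hid in
lemma map_loHi (o : B.O) : ∃ a : (Obj.lo o : Obj B) ⟶ Obj.hi o, (model p φ).map a = 𝟙 (p o) := by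
  obtain ⟨e, h₁, h₂, he⟩ := hid o
  refine ⟨mkArr e h₁ h₂, ?_⟩
  rw [model_map_mkArr, he, eqToHom_trans, eqToHom_trans]
  rfl

include hid in
lemma zag_lo_hi_sa (o : B.O) {i : I} (g : i ⟶ p o) :
    Zag (StructuredArrow.mk (T := model p φ) (Y := Obj.lo o) g)
      (StructuredArrow.mk (T := model p φ) (Y := Obj.hi o) g) := by
  obtain ⟨a, ha⟩ := map_loHi p φ hid o
  exact Or.inl ⟨StructuredArrow.homMk a ((congrArg (g ≫ ·) ha).trans (Category.comp_id g))⟩

include hid in
lemma zag_lo_hi_ca (o : B.O) {i : I} (g : p o ⟶ i) :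
    Zag (CostructuredArrow.mk (S := model p φ) (Y := Obj.lo o) g)
      (CostructuredArrow.mk (S := model p φ) (Y := Obj.hi o) g) := by
  obtain ⟨a, ha⟩ := map_loHi p φ hid o
  exact Or.inl ⟨CostructuredArrow.homMk a ((congrArg (· ≫ g) ha).trans (Category.id_comp g))⟩

include hpq hqp hid hgen hφ in
theorem final : (model p φ).Final := by
  refine ⟨fun i => ?_⟩
  let ob : ∀ {x : I}, (i ⟶ x) → StructuredArrow i (model p φ) := fun {x} g =>
    StructuredArrow.mk (T := model p φ) (Y := Obj.lo (q x)) (g ≫ eqToHom (hpq x).symm)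
  let P : MorphismProperty I := fun x y h => ∀ g : i ⟶ x, Zigzag (ob g) (ob (g ≫ h))
  have hobeq : ∀ o {g : i ⟶ p o}, ob g = StructuredArrow.mk (T := model p φ) (Y := Obj.lo o) g := by
    intro o g
    have key : ∀ o' (h : o' = o), StructuredArrow.mk (T := model p φ) (Y := Obj.lo o')
        (g ≫ eqToHom (by rw [h]; rfl)) = StructuredArrow.mk (T := model p φ) (Y := Obj.lo o) g := by
      intro o' h; subst h; exact congrArg StructuredArrow.mk (Category.comp_id g)
    exact key _ (hqp o)
  have hP : P = ⊤ := by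
    refine hgen P ?_ ?_
    · exact
        { id_mem := fun x g => by rw [Category.comp_id]
          comp_mem := fun f h hf hh g => by
            rw [← Category.assoc]; exact (hf g).trans (hh _) }
    · intro x y f hf g
      obtain ⟨e, h₁, h₂, he⟩ := hφ x y f hf
      subst h₁; subst h₂
      rw [hobeq, hobeq]
      refine (Zigzag.of_zag ?_).trans (Zigzag.of_zag (zag_lo_hi_sa p φ hid _ _).symm)
      refine Or.inl ⟨StructuredArrow.homMk (Hom.arr e) ?_⟩
      change g ≫ φ e = g ≫ f
      rw [he]; simp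
  have hto : ∀ j : StructuredArrow i (model p φ), Zigzag (ob (𝟙 i)) j := by
    intro j
    obtain ⟨⟨⟨⟩⟩, j, h⟩ := j
    cases j with
    | lo o =>
      revert h; intro (h : i ⟶ p o)
      have := (show P (h : i ⟶ p o) by rw [hP]; trivial) (𝟙 i)
      rw [Category.id_comp, hobeq o] at this
      exact this
    | hi o =>
      revert h; intro (h : i ⟶ p o)
      have := (show P (h : i ⟶ p o) by rw [hP]; trivial) (𝟙 i)
      rw [Category.id_comp, hobeq o] at this
      exact this.trans (Zigzag.of_zag (zag_lo_hi_sa p φ hid o h))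
  have : Nonempty (StructuredArrow i (model p φ)) := ⟨ob (𝟙 i)⟩
  exact zigzag_isConnected fun j₁ j₂ => (hto j₁).symm.trans (hto j₂)

include hpq hqp hid hgen hφ in
theorem initial : (model p φ).Initial := by
  refine ⟨fun i => ?_⟩
  let ob : ∀ {x : I}, (x ⟶ i) → CostructuredArrow (model p φ) i := fun {x} g =>
    CostructuredArrow.mk (S := model p φ) (Y := Obj.lo (q x)) (eqToHom (hpq x) ≫ g)
  let P : MorphismProperty I := fun x y h => ∀ g : y ⟶ i, Zigzag (ob (h ≫ g)) (ob g)
  have hobeq : ∀ o {g : p o ⟶ i}, ob g = CostructuredArrow.mk (S := model p φ) (Y := Obj.lo o) g := by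
    intro o g
    have key : ∀ o' (h : o' = o), CostructuredArrow.mk (S := model p φ) (Y := Obj.lo o')
        (eqToHom (show (model p φ).obj (Obj.lo o') = p o by rw [h]; rfl) ≫ g) =
        CostructuredArrow.mk (S := model p φ) (Y := Obj.lo o) g := by
      intro o' h; subst h; exact congrArg CostructuredArrow.mk (Category.id_comp g)
    exact key _ (hqp o)
  have hP : P = ⊤ := by
    refine hgen P ?_ ?_
    · exact
        { id_mem := fun x g => by rw [Category.id_comp]
          comp_mem := fun f h hf hh g => by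
            rw [Category.assoc]; exact (hf _).trans (hh g) }
    · intro x y f hf g
      obtain ⟨e, h₁, h₂, he⟩ := hφ x y f hf
      subst h₁; subst h₂
      rw [hobeq, hobeq]
      refine (Zigzag.of_zag ?_).trans (Zigzag.of_zag (zag_lo_hi_ca p φ hid _ g).symm)
      refine Or.inl ⟨CostructuredArrow.homMk (Hom.arr e) ?_⟩
      change φ e ≫ g = f ≫ g
      rw [he]; simp
  have hto : ∀ j : CostructuredArrow (model p φ) i, Zigzag (ob (𝟙 i)) j := by
    intro j
    obtain ⟨j, ⟨⟨⟩⟩, h⟩ := j
    cases j with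
    | lo o =>
      revert h; intro (h : p o ⟶ i)
      have := (show P (h : p o ⟶ i) by rw [hP]; trivial) (𝟙 i)
      rw [Category.comp_id, hobeq o] at this
      exact this.symm
    | hi o =>
      revert h; intro (h : p o ⟶ i)
      have := (show P (h : p o ⟶ i) by rw [hP]; trivial) (𝟙 i)
      rw [Category.comp_id, hobeq o] at this
      exact this.symm.trans (Zigzag.of_zag (zag_lo_hi_ca p φ hid o h))
  have : Nonempty (CostructuredArrow (model p φ) i) := ⟨ob (𝟙 i)⟩
  exact zigzag_isConnected fun j₁ j₂ => (hto j₁).symm.trans (hto j₂)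

include hqp hid hgen hφ in
theorem isConnected_iff (hpq : ∀ x, p (q x) = x) : IsConnected (Obj B) ↔ IsConnected I := by
  constructor
  · intro hJ
    have : Nonempty I := (hJ.is_nonempty).map (pObj p)
    refine zigzag_isConnected fun x y => ?_
    have h := zigzag_obj_of_zigzag (model p φ) (isPreconnected_zigzag (Obj.lo (q x)) (Obj.lo (q y)))
    rwa [show (model p φ).obj (Obj.lo (q x)) = x from hpq x,
      show (model p φ).obj (Obj.lo (q y)) = y from hpq y] at h
  · intro hI
    have : Nonempty (Obj B) := hI.is_nonempty.map fun x => Obj.lo (q x)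
    have hlh : ∀ o, Zag (Obj.lo o : Obj B) (Obj.hi o) := by
      intro o
      obtain ⟨e, h₁, h₂, -⟩ := hid o
      refine Or.inl ⟨?_⟩
      exact eqToHom (by rw [h₁]) ≫ (Hom.arr e : Obj.lo (B.src e) ⟶ Obj.hi (B.tgt e)) ≫ eqToHom (by rw [h₂])
    let P : MorphismProperty I := fun x y _ => Zigzag (Obj.lo (q x) : Obj B) (Obj.lo (q y))
    have hP : P = ⊤ := by
      refine hgen P ?_ ?_
      · exact { id_mem := fun x => Zigzag.refl _, comp_mem := fun f h hf hh => Zigzag.trans hf hh }
      · intro x y f hf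
        obtain ⟨e, h₁, h₂, -⟩ := hφ x y f hf
        subst h₁; subst h₂
        change Zigzag _ _
        rw [hqp, hqp]
        exact (Zigzag.of_zag (Or.inl ⟨Hom.arr e⟩)).trans (Zigzag.of_zag (hlh _).symm)
    have hz : ∀ x y : I, Zigzag x y → Zigzag (Obj.lo (q x) : Obj B) (Obj.lo (q y)) := by
      intro x y h
      induction h with
      | refl => exact Zigzag.refl _
      | tail _ hzag ih =>
        refine ih.trans ?_
        rcases hzag with ⟨⟨f⟩⟩ | ⟨⟨f⟩⟩
        · exact (show P f by rw [hP]; trivial)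
        · exact Zigzag.symm (show P f by rw [hP]; trivial)
    refine zigzag_isConnected fun a b => ?_
    have hto : ∀ j : Obj B, Zigzag j (Obj.lo (q (pObj p j))) := by
      intro j
      cases j with
      | lo o => rw [show q (pObj p (Obj.lo o)) = o from hqp o]
      | hi o => rw [show q (pObj p (Obj.hi o)) = o from hqp o]; exact Zigzag.of_zag (hlh o).symm
    exact ((hto a).trans (hz _ _ (isPreconnected_zigzag _ _))).trans (hto b).symm

theorem main {I : Type u} [Category.{v} I] [Finite I]
    (gen : Finset (Σ x y : I, x ⟶ y))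
    (hgen : ∀ P : MorphismProperty I, P.IsMultiplicative → (∀ a ∈ gen, P a.2.2) → P = ⊤) :
    ∃ (J : Type) (_ : SmallCategory J) (_ : FinCategory J) (F : J ⥤ I),
      F.Final ∧ F.Initial ∧ (IsConnected J ↔ IsConnected I) ∧ (Nonempty J ↔ Nonempty I) := by
  obtain ⟨n, ⟨e⟩⟩ := Finite.exists_equiv_fin I
  let g := gen.equivFin.symm
  let B : Bip :=
    { O := Fin n, E := Fin n ⊕ Fin gen.card
      src := Sum.elim id (fun k => e (g k).1.1)
      tgt := Sum.elim id (fun k => e (g k).1.2.1) }
  let p : B.O → I := e.symm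
  let φ : ∀ a : B.E, p (B.src a) ⟶ p (B.tgt a) := fun a => match a with
    | .inl o => 𝟙 (p o)
    | .inr k => eqToHom (e.symm_apply_apply _) ≫ (g k).1.2.2 ≫ eqToHom (e.symm_apply_apply _).symm
  have hid : ∀ o, ∃ a, ∃ (h₁ : B.src a = o) (h₂ : B.tgt a = o), φ a = eqToHom (by rw [h₁, h₂]) :=
    fun o => ⟨.inl o, rfl, rfl, (eqToHom_refl _ rfl).symm⟩
  let G : ∀ x y : I, (x ⟶ y) → Prop := fun x y f => (⟨x, y, f⟩ : Σ x y : I, x ⟶ y) ∈ gen
  have hgen' : ∀ P : MorphismProperty I, P.IsMultiplicative →
      (∀ (x y : I) (f : x ⟶ y), G x y f → P f) → P = ⊤ :=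
    fun P hP h => hgen P hP fun a ha => h a.1 a.2.1 a.2.2 ha
  have hφ : ∀ (x y : I) (f : x ⟶ y), G x y f → ∃ a, ∃ (h₁ : p (B.src a) = x) (h₂ : p (B.tgt a) = y),
      φ a = eqToHom h₁ ≫ f ≫ eqToHom h₂.symm := by
    intro x y f hf
    obtain ⟨k, hk⟩ : ∃ k, g k = ⟨⟨x, y, f⟩, hf⟩ := g.surjective _
    have key : ∀ w : {a // a ∈ gen}, w.1 = (⟨x, y, f⟩ : Σ x y : I, x ⟶ y) →
        ∃ (h₁ : e.symm (e w.1.1) = x) (h₂ : e.symm (e w.1.2.1) = y),
          eqToHom (e.symm_apply_apply _) ≫ w.1.2.2 ≫ eqToHom (e.symm_apply_apply _).symm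
            = eqToHom h₁ ≫ f ≫ eqToHom h₂.symm := by
      rintro ⟨w, hw⟩ rfl
      exact ⟨e.symm_apply_apply _, e.symm_apply_apply _, rfl⟩
    exact ⟨.inr k, key (g k) (congrArg Subtype.val hk)⟩
  have : Finite B.O := inferInstanceAs (Finite (Fin n))
  have : Finite B.E := inferInstanceAs (Finite (Fin n ⊕ Fin gen.card))
  have hpq : ∀ x, p (e x) = x := e.symm_apply_apply
  have hqp : ∀ o, e (p o) = o := e.apply_symm_apply
  refine ⟨Obj B, inferInstance, finCategory B, model p φ,
    final p φ e hpq hqp hid G hgen' hφ, initial p φ e hpq hqp hid G hgen' hφ,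
    isConnected_iff p φ e hqp hid G hgen' hφ hpq,
    ⟨fun h => h.map (pObj p), fun h => h.map fun x => Obj.lo (e x)⟩⟩

end Groth.Agent.FinModelCat
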